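import Groth.Agent.H24Algz5.Engine
import Groth.Agent.H24Algz4.CanonExt

/-!
A split coherent formal module on an open of the spectrum canonically extends.
-/

set_option autoImplicit false
set_option linter.style.haveILetI false

universe u

open CategoryTheory CategoryTheory.Limits AlgebraicGeometry Opposite

namespace Groth.Agent.H24Algz5

open Groth.Agent.H24Formal

attribute [local instance 10000] H10Coh.hasSheafifyAb H10Coh.hasWeakSheafifyAb H10Coh.hasExtAb H10Coh.enoughInjAb

variable {X : Scheme.{u}}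

/-- Sections from degree zero cohomology. -/
noncomputable def secH (M : X.Modules) : Coh.HH X M 0 ≃+ Γ(M, ⊤) :=
  (H10Coh.HHEquiv M 0).trans (H10Coh.H0Equiv (H10Coh.sh M) (⊤ : X.Opens))

variable {A : Type u} [CommRing A] [X.Over (Spec (CommRingCat.of A))]

theorem secH_lin {M N : X.Modules} (φ : M ⟶ N) (x : Coh.HH X M 0) :
    secH N (Canon.HHlin A φ 0 x) = φ.app ⊤ (secH M x) := by
  show H10Coh.H0Equiv (H10Coh.sh N) _ (H10Coh.topEquiv (H10Coh.sh N) 0 (Sheaf.H.map ((H10Coh.shF X).map φ) 0 x)) = _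
  rw [H10Coh.topEquiv_map, H10Coh.H0Equiv_map]
  rfl

section

variable (A) (I : Ideal A) [(Spec (CommRingCat.of A)).Over (Spec (CommRingCat.of A))]
  (hover : (Spec (CommRingCat.of A)) ↘ (Spec (CommRingCat.of A)) = 𝟙 _)
  (U : (Spec (CommRingCat.of A)).Opens) [(U : Scheme.{u}).Over (Spec (CommRingCat.of A))]
  (hU : U.ι ≫ ((Spec (CommRingCat.of A)) ↘ (Spec (CommRingCat.of A))) = (U : Scheme.{u}) ↘ Spec (CommRingCat.of A))
  (G : ℕᵒᵖ ⥤ (U : Scheme.{u}).Modules)

include hover hU in
theorem nonempty_H0sys_iso : Nonempty (H0sys (A := A) G ≅ Algz.sectMod A U G) := by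
  have hsm : ∀ (N : (U : Scheme.{u}).Modules) (a : A) (x : Coh.HH (U : Scheme.{u}) N 0),
      (show (moduleSpecΓFunctor (R := CommRingCat.of A)).obj ((Scheme.Modules.pushforward U.ι).obj N) from secH N (a • x)) =
        a • (show (moduleSpecΓFunctor (R := CommRingCat.of A)).obj ((Scheme.Modules.pushforward U.ι).obj N) from secH N x) := by
    intro N a x
    rw [H24Algz4.smul_eq_smulMod_app A hover _ a, ← pushforward_map_smulMod U.ι hU N a, ← lin_smulMod N a 0 x, secH_lin]
    rfl
  let e : ∀ n : ℕᵒᵖ, (H0sys (A := A) G).obj n ≅ (Algz.sectMod A U G).obj n := fun n => LinearEquiv.toModuleIso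
    (show Coh.HH (U : Scheme.{u}) (G.obj n) 0 ≃ₗ[A] ↥((Algz.sectMod A U G).obj n) from
    { toFun := fun x => secH (G.obj n) x
      invFun := fun z => (secH (G.obj n)).symm z
      left_inv := fun x => (secH (G.obj n)).symm_apply_apply x
      right_inv := fun z => (secH (G.obj n)).apply_symm_apply z
      map_add' := fun x y => map_add (secH (G.obj n)) x y
      map_smul' := fun a x => hsm (G.obj n) a x })
  exact ⟨NatIso.ofComponents e fun {n n'} φ => ModuleCat.hom_ext (LinearMap.ext fun x => secH_lin (A := A) (G.map φ) x)⟩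

variable {G} {I} (hG : Formal.IsCohFormal (A := A) I G) {d : ℕ} {f : Fin d → A} {hf : Jf f ≤ I}
  [IsNoetherianRing A]

include hover hU in
/-- The criterion. -/
theorem canonicallyExtends_of_split (hsplit : IsSplit hG f hf)
    (h0 : Module.Finite A (Coh.HH (U : Scheme.{u}) (G.obj (op 0)) 0))
    (h1 : Module.Finite A (Coh.HH (U : Scheme.{u}) (G.obj (op 0)) 1)) :
    ∃ G' : ℕᵒᵖ ⥤ (Spec (CommRingCat.of A)).Modules, Formal.IsCohFormal I G' ∧
      Algz.IsProIsomorphic (Algz.sectSys A U G) G' := by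
  haveI : Module.Finite A (Coh.HH (U : Scheme.{u}) (Kl G 0) 0) := h0
  haveI : Module.Finite A (Coh.HH (U : Scheme.{u}) (Kl G 0) 1) := h1
  obtain ⟨e⟩ := nonempty_H0sys_iso A hover U hU G
  have hk : ∀ n, ∀ a ∈ I ^ (n + 1), ∀ x : (H0sys (A := A) G).obj (op n), a • x = 0 := by
    intro n a ha
    show ∀ x : Coh.HH (U : Scheme.{u}) (G.obj (op n)) 0, a • x = 0
    intro x
    rw [← lin_smulMod, hG.2.1 n a ha, lin_zero_apply]
  obtain ⟨hfin, hpro⟩ := H24Algz4.isProIsomorphic_quot I (H0sys (A := A) G) hk (isML_H0sys hG hsplit)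
    (exists_ker_le_pow hG hsplit) fun n => by
      haveI := finite_H0sys hG hsplit n
      exact Module.Finite.of_fg (IsNoetherian.noetherian _)
  exact ⟨_, H24Algz4.isCohFormal_quot A hover I _ hfin,
    isProIsomorphic_map (tilde.functor (CommRingCat.of A)) (isProIsomorphic_of_iso_left e hpro)⟩

end

end Groth.Agent.H24Algz5
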