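import Groth.Agent.H24Algz5.StalkSys
import Groth.Agent.H24Algz5.Sect

/-!
Split layers from regular sequences and from flatness on completed stalks.
-/

set_option autoImplicit false
set_option linter.style.haveILetI false

universe u

open CategoryTheory CategoryTheory.Limits AlgebraicGeometry Opposite RingTheory.Sequence

namespace Groth.Agent.H24Algz5

variable {A : Type u} [CommRing A] {X : Scheme.{u}} [X.Over (Spec (CommRingCat.of A))]

/-- Outside the zero locus the ideal generates the unit ideal of the local ring. -/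
theorem stalkIdeal_eq_top_or_mem (I : Ideal A) (y : X) :
    Algz.stalkIdeal I y = ⊤ ∨
      (X ↘ Spec (CommRingCat.of A)).base y ∈ PrimeSpectrum.zeroLocus (R := A) I := by
  by_cases h : (X ↘ Spec (CommRingCat.of A)).base y ∈ PrimeSpectrum.zeroLocus (R := A) I
  · exact Or.inr h
  refine Or.inl ?_
  obtain ⟨a, haI, hay⟩ := Set.not_subset.1 h
  have hmem : (X ↘ Spec (CommRingCat.of A)).base y ∈
      (Spec (CommRingCat.of A)).basicOpen ((Scheme.ΓSpecIso (CommRingCat.of A)).inv a) := by
    rw [basicOpen_eq_of_affine]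
    exact hay
  have hy : y ∈ (X ↘ Spec (CommRingCat.of A)) ⁻¹ᵁ
      (Spec (CommRingCat.of A)).basicOpen ((Scheme.ΓSpecIso (CommRingCat.of A)).inv a) := hmem
  rw [Scheme.preimage_basicOpen_top] at hy
  have hy := (Scheme.mem_basicOpen X _ y (TopologicalSpace.Opens.mem_top y)).1 hy
  exact Ideal.eq_top_of_isUnit_mem _ (Ideal.mem_map_of_mem _ haI) hy

variable {I : Ideal A} {G : ℕᵒᵖ ⥤ X.Modules} (hG : Formal.IsCohFormal I G) [IsNoetherianRing A]

theorem isSplit_of_regular {d : ℕ} (f : Fin d → A) (hf : Jf f ≤ I)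
    (h : ∀ y : X, (X ↘ Spec (CommRingCat.of A)).base y ∈ PrimeSpectrum.zeroLocus (R := A) I →
      Algz.stalkIdeal I y = Ideal.span (Set.range fun j => Algz.toStalk A X y (f j)) ∧
      IsWeaklyRegular ↥(Algz.hatStalk I G y) (List.ofFn fun j => Algz.toStalk A X y (f j))) :
    IsSplit hG f hf := by
  refine isSplit_of_stalk hG f hf fun n => ?_
  let e := Fintype.equivFin (MonIx d n)
  refine ⟨_, fun s => mons f n (e.symm s), fun s => mons_mem f n _, fun y => ?_⟩
  rcases stalkIdeal_eq_top_or_mem I y with htop | hy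
  · refine ⟨le_sup_of_le_right (le_of_le_of_eq le_top ((congrArg (· ^ (n + 1)) htop).trans (Ideal.top_pow _ _)).symm),
      fun x _ s => Submodule.smul_mono_left htop.ge ?_⟩
    rw [Submodule.top_smul]
    trivial
  obtain ⟨hJ, hreg⟩ := h y hy
  let g : Fin d → X.presheaf.stalk y := fun j => Algz.toStalk A X y (f j)
  have hr : (fun s => Algz.toStalk A X y (mons f n (e.symm s))) = fun s => mons g n (e.symm s) :=
    funext fun s => map_mons _ (e.symm s) f
  refine ⟨?_, fun x hx s => ?_⟩
  · refine le_trans (Ideal.pow_right_mono hJ.le n) ?_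
    rw [hr]
    refine (span_mons g n).trans (le_trans (Ideal.span_mono ?_) le_sup_left)
    rintro _ ⟨i, rfl⟩
    exact ⟨e i, by simp⟩
  · replace hx := Submodule.smul_mono_left (Ideal.pow_right_mono hJ.le (n + 1)) hx
    refine Submodule.smul_mono_left hJ.ge ?_
    have h2 := mem_of_sum_mem g (mons_independent g hreg n) (fun i => x (e i)) (by
      refine Eq.subst (motive := fun z => z ∈ Ideal.span (Set.range g) ^ (n + 1) •
        (⊤ : Submodule (X.presheaf.stalk y) ↥(Algz.hatStalk I G y))) ?_ hx
      refine Fintype.sum_equiv e.symm _ _ fun s => ?_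
      show Algz.toStalk A X y (mons f n (e.symm s)) • x s = mons g n (e.symm s) • x (e (e.symm s))
      rw [congrFun hr s, Equiv.apply_symm_apply]) (e.symm s)
    simpa only [Equiv.apply_symm_apply] using h2

theorem isWeaklyRegular_of_hat {d : ℕ} {y : X} (g : Fin d → X.presheaf.stalk y)
    (h : IsRegular ↥(Algz.hatStalk I G y)
      (List.ofFn fun j => algebraMap (X.presheaf.stalk y) (Algz.hatRing I y) (g j))) :
    IsWeaklyRegular ↥(Algz.hatStalk I G y) (List.ofFn g) := by
  have h' := h.toIsWeaklyRegular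
  rw [show List.ofFn (fun j => algebraMap (X.presheaf.stalk y) (Algz.hatRing I y) (g j)) =
    (List.ofFn g).map (algebraMap (X.presheaf.stalk y) (Algz.hatRing I y)) from by rw [List.map_ofFn]; rfl] at h'
  exact (isWeaklyRegular_map_algebraMap_iff (Algz.hatRing I y) _ _).1 h'

end Groth.Agent.H24Algz5
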