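import Groth.Agent.H24Formal.ProLimit

/-!
Successive approximation in the limit of a system of modules.
-/

set_option autoImplicit false
set_option linter.style.haveILetI false

universe u

open CategoryTheory CategoryTheory.Limits Opposite

namespace Groth.Agent.H24Algz5

open Groth.Agent.H24Formal

variable {A : Type u} [CommRing A] (Y : ℕᵒᵖ ⥤ ModuleCat.{u} A)

/-- The projection from the limit. -/
noncomputable abbrev πl (n : ℕ) : ↑(limit Y) →ₗ[A] Y.obj (op n) := (limit.π Y (op n)).hom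

theorem ker_π_anti {n m : ℕ} (h : n ≤ m) : LinearMap.ker (πl Y m) ≤ LinearMap.ker (πl Y n) := fun x hx => by
  rw [LinearMap.mem_ker, ← limit_π_map Y h x, LinearMap.mem_ker.1 hx, map_zero]

/-- If every term of the filtration decomposes along `b` up to the next one, it lies in the ideal of `b`. -/
theorem exists_sum_of_approx {r : ℕ} (b : Fin r → A) (n k : ℕ) (hkn : k ≤ n)
    (h : ∀ N, n ≤ N → ∀ z ∈ LinearMap.ker (πl Y N), ∃ y : Fin r → ↑(limit Y),
      (∀ l, y l ∈ LinearMap.ker (πl Y (N - k))) ∧ z - ∑ l, b l • y l ∈ LinearMap.ker (πl Y (N + 1)))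
    (z : ↑(limit Y)) (hz : z ∈ LinearMap.ker (πl Y n)) : ∃ y : Fin r → ↑(limit Y), z = ∑ l, b l • y l := by
  classical
  choose y hy hstep using fun (i : ℕ) (w : LinearMap.ker (πl Y (n + i))) => h (n + i) (Nat.le_add_right n i) w.1 w.2
  let zs : ∀ i : ℕ, LinearMap.ker (πl Y (n + i)) := fun i => Nat.rec (⟨z, hz⟩ : LinearMap.ker (πl Y (n + 0)))
    (fun i w => (⟨w.1 - ∑ l, b l • y i w l, hstep i w⟩ : LinearMap.ker (πl Y (n + (i + 1))))) i
  let Ys : ℕ → Fin r → ↑(limit Y) := fun i => y i (zs i)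
  have hsum : ∀ i, z - ∑ j ∈ Finset.range i, ∑ l, b l • Ys j l = (zs i).1 := by
    intro i
    induction i with
    | zero => simp [zs]
    | succ i ih => rw [Finset.sum_range_succ, ← sub_sub, ih]
  have hvan : ∀ j p, p + 1 ≤ j → ∀ l, (πl Y p) (Ys j l) = 0 := fun j p hjp l =>
    ker_π_anti Y (by omega : p ≤ n + j - k) (hy j (zs j) l)
  have hlim : ∀ l, ∃ w : ↑(limit Y), ∀ p, (πl Y p) w = ∑ j ∈ Finset.range (p + 1), (πl Y p) (Ys j l) := fun l => by
    refine exists_limit_mod_succ Y (fun p => ∑ j ∈ Finset.range (p + 1), (πl Y p) (Ys j l)) fun p => ?_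
    rw [map_sum, Finset.sum_range_succ, limit_π_map Y (Nat.le_succ p), hvan (p + 1) p le_rfl l, add_zero]
    exact Finset.sum_congr rfl fun j _ => limit_π_map Y (Nat.le_succ p) _
  choose w hw using hlim
  refine ⟨w, limit_mod_ext Y _ _ fun p => ?_⟩
  have h1 : (πl Y p) ((zs (p + 1)).1) = 0 := ker_π_anti Y (by omega : p ≤ n + (p + 1)) (zs (p + 1)).2
  rw [← hsum (p + 1), map_sub, sub_eq_zero] at h1
  rw [h1, map_sum, map_sum]
  simp only [map_sum, map_smul, hw, Finset.smul_sum]
  exact Finset.sum_comm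

end Groth.Agent.H24Algz5
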