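import Groth.Agent.H10Coh.Affine
import Groth.Agent.H10Coh.FinH
import Groth.Prelude.Def_Canon
import Groth.Prelude.Def_Formal

/-!
Maps and connecting maps on the cohomology of modules on a scheme over a ring.
-/

set_option autoImplicit false
set_option linter.style.haveILetI false

universe u

open CategoryTheory CategoryTheory.Limits CategoryTheory.Abelian AlgebraicGeometry Opposite
open Groth.Agent.H10Coh

namespace Groth.Agent.H24Algz5

attribute [local instance 10000] H10Coh.hasSheafifyAb H10Coh.hasWeakSheafifyAb H10Coh.hasExtAb H10Coh.enoughInjAb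

variable {A : Type u} [CommRing A] {X : Scheme.{u}} [X.Over (Spec (CommRingCat.of A))]

theorem lin_comp_apply {F G H : X.Modules} (φ : F ⟶ G) (ψ : G ⟶ H) (q : ℕ) (x : Coh.HH X F q) :
    Canon.HHlin A (φ ≫ ψ) q x = Canon.HHlin A ψ q (Canon.HHlin A φ q x) := by
  show Sheaf.H.map ((shF X).map (φ ≫ ψ)) q x = _
  rw [Functor.map_comp, Sheaf.H.map_comp_apply]
  rfl

theorem lin_add_apply {F G : X.Modules} (φ ψ : F ⟶ G) (q : ℕ) (x : Coh.HH X F q) :
    Canon.HHlin A (φ + ψ) q x = Canon.HHlin A φ q x + Canon.HHlin A ψ q x := by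
  show Sheaf.H.map ((shF X).map (φ + ψ)) q x = _
  rw [Functor.map_add]
  exact Sheaf.H.map_add_apply _ _ _

theorem lin_zero_apply {F G : X.Modules} (q : ℕ) (x : Coh.HH X F q) : Canon.HHlin A (0 : F ⟶ G) q x = 0 := by
  have h := lin_add_apply (A := A) (0 : F ⟶ G) 0 q x
  rw [add_zero] at h
  exact left_eq_add.1 h

theorem lin_id_apply (F : X.Modules) (q : ℕ) (x : Coh.HH X F q) : Canon.HHlin A (𝟙 F) q x = x := by
  show Sheaf.H.map ((shF X).map (𝟙 F)) q x = x
  rw [CategoryTheory.Functor.map_id, Sheaf.H.map_id_apply]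

theorem lin_sum_apply {ι : Type} (S : Finset ι) {F G : X.Modules} (φ : ι → (F ⟶ G)) (q : ℕ) (x : Coh.HH X F q) :
    Canon.HHlin A (∑ i ∈ S, φ i) q x = ∑ i ∈ S, Canon.HHlin A (φ i) q x :=
  map_sum (AddMonoidHom.mk' (fun ψ : F ⟶ G => Canon.HHlin A ψ q x) fun a b => lin_add_apply a b q x) φ S

theorem lin_smulMod (F : X.Modules) (a : A) (q : ℕ) (x : Coh.HH X F q) :
    Canon.HHlin A (Formal.smulMod A F a) q x = a • x := rfl

variable {S : ShortComplex X.Modules} (hS : S.ShortExact)

/-- The connecting map. -/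
noncomputable def δH (q : ℕ) : Coh.HH X S.X₃ q →+ Coh.HH X S.X₁ (q + 1) :=
  (shortExact_sh hS).extClass.postcomp _ rfl

theorem exists_of_δH_eq_zero (q : ℕ) (x : Coh.HH X S.X₃ q) (hx : δH hS q x = 0) :
    ∃ y : Coh.HH X S.X₂ q, Canon.HHlin A S.g q y = x :=
  Ext.covariant_sequence_exact₃ _ (shortExact_sh hS) x rfl hx

include hS in
theorem exists_of_lin_g_eq_zero (q : ℕ) (y : Coh.HH X S.X₂ q) (hy : Canon.HHlin A S.g q y = 0) :
    ∃ x : Coh.HH X S.X₁ q, Canon.HHlin A S.f q x = y :=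
  Ext.covariant_sequence_exact₂ _ (shortExact_sh hS) y hy

theorem δH_natural {T : ShortComplex X.Modules} (hT : T.ShortExact) (φ : S ⟶ T) (q : ℕ) (x : Coh.HH X S.X₃ q) :
    δH hT q (Canon.HHlin A φ.τ₃ q x) = Canon.HHlin A φ.τ₁ (q + 1) (δH hS q x) := by
  have e := ShortComplex.ShortExact.extClass_naturality (shortExact_sh hS) (shortExact_sh hT)
    ((shF X).mapShortComplex.map φ)
  refine (Ext.comp_assoc_of_second_deg_zero x _ (shortExact_sh hT).extClass rfl).trans ?_
  refine Eq.trans ?_ (Ext.comp_assoc_of_third_deg_zero x (shortExact_sh hS).extClass _ rfl).symm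
  exact congrArg (fun w => Ext.comp x w rfl) e.symm

include hS in
theorem lin_f_injective_zero : Function.Injective (Canon.HHlin A S.f 0) := by
  haveI : Mono (S.map (shF X)).f := (shortExact_sh hS).mono_f
  exact Ext.postcomp_mk₀_injective_of_mono _ (S.map (shF X)).f

end Groth.Agent.H24Algz5
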