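import Groth.Agent.H24Algz5.Layers

/-!
Finiteness, the Mittag-Leffler condition and the topology of the global sections of a split system.
-/

set_option autoImplicit false
set_option linter.style.haveILetI false

universe u

open CategoryTheory CategoryTheory.Limits AlgebraicGeometry Opposite

namespace Groth.Agent.H24Algz5

open Groth.Agent.H24Formal H16Derived.ML

attribute [local instance 10000] H10Coh.hasSheafifyAb H10Coh.hasWeakSheafifyAb H10Coh.hasExtAb H10Coh.enoughInjAb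

variable {A : Type u} [CommRing A] {X : Scheme.{u}} [X.Over (Spec (CommRingCat.of A))]

/-- The system of global cohomology in degree zero. -/
noncomputable def H0sys (G : ℕᵒᵖ ⥤ X.Modules) : ℕᵒᵖ ⥤ ModuleCat.{u} A where
  obj j := ModuleCat.of A (Coh.HH X (G.obj j) 0)
  map φ := ModuleCat.ofHom (Canon.HHlin A (G.map φ) 0)
  map_id j := ModuleCat.hom_ext (LinearMap.ext fun x => by
    show Canon.HHlin A (G.map (𝟙 j)) 0 x = x
    rw [G.map_id, lin_id_apply])
  map_comp φ ψ := ModuleCat.hom_ext (LinearMap.ext fun x => by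
    show Canon.HHlin A (G.map (φ ≫ ψ)) 0 x = Canon.HHlin A (G.map ψ) 0 (Canon.HHlin A (G.map φ) 0 x)
    rw [G.map_comp, lin_comp_apply])

theorem isML_of_stable (Y : ℕᵒᵖ ⥤ ModuleCat.{u} A) {c : ℕ}
    (h : H24FMod.GrML.Stable (Y ⋙ forget₂ (ModuleCat.{u} A) AddCommGrpCat.{u}) c) : ARSys.IsML Y := by
  intro n
  refine ⟨c, fun s hs => le_antisymm ?_ ?_⟩
  · refine (H3CAlg.ARS.imageSubobject_le_iff _ _).2 (.of_eq (ARSys.tr Y (Nat.add_le_add_left hs n)) ?_)
    show Y.map _ = Y.map _ ≫ Y.map _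
    rw [← Y.map_comp]
    rfl
  · refine (H3CAlg.ARS.imageSubobject_le_iff _ _).2 ((H3CAlg.ARS.imLE_iff_cokernel _ _).2 ?_)
    refine ModuleCat.hom_ext (LinearMap.ext fun x => ?_)
    obtain ⟨y, hy⟩ := h n (n + s) (Nat.add_le_add_left hs n) x
    show (cokernel.π (ARSys.shiftMap Y s n)).hom ((ARSys.shiftMap Y c n).hom x) = 0
    rw [show (ARSys.shiftMap Y c n).hom x = (ARSys.shiftMap Y s n).hom y from hy.symm]
    exact congr($(cokernel.condition (ARSys.shiftMap Y s n)) y)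

theorem exists_sum_of_mem_mul {r : ℕ} (b : Fin r → A) {P : Ideal A} {a : A}
    (ha : a ∈ Ideal.span (Set.range b) * P) : ∃ al : Fin r → A, (∀ l, al l ∈ P) ∧ ∑ l, b l * al l = a := by
  refine Submodule.mul_induction_on ha (fun x hx w hw => ?_) fun x w hx hw => ?_
  · obtain ⟨co, rfl⟩ := Ideal.mem_span_range_iff_exists_fun.1 hx
    refine ⟨fun l => co l * w, fun l => Ideal.mul_mem_left _ _ hw, ?_⟩
    rw [Finset.sum_mul]
    exact Finset.sum_congr rfl fun l _ => by ring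
  · obtain ⟨f₁, h₁, rfl⟩ := hx
    obtain ⟨f₂, h₂, rfl⟩ := hw
    exact ⟨f₁ + f₂, fun l => add_mem (h₁ l) (h₂ l), by simp [mul_add, Finset.sum_add_distrib]⟩

variable {I : Ideal A} {G : ℕᵒᵖ ⥤ X.Modules} (hG : Formal.IsCohFormal I G)
  {d : ℕ} {f : Fin d → A} {hf : Jf f ≤ I} (hsplit : IsSplit hG f hf)
  [IsNoetherianRing A]

section
variable [Module.Finite A (Coh.HH X (Kl G 0) 0)]

include hsplit in
theorem finite_H0sys : ∀ n : ℕ, Module.Finite A ((H0sys (A := A) G).obj (op n))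
  | 0 => ‹Module.Finite A (Coh.HH X (Kl G 0) 0)›
  | n + 1 => by
    haveI : Module.Finite A (Coh.HH X (G.obj (op n)) 0) := finite_H0sys n
    haveI := finite_layer hG hsplit 0 (n + 1)
    let τ := Canon.HHlin A (tr G (Nat.le_succ n)) 0
    suffices Module.Finite A (Coh.HH X (G.obj (op (n + 1))) 0) from this
    refine ⟨Submodule.fg_of_fg_map_of_fg_inf_ker τ (IsNoetherian.noetherian _) ?_⟩
    rw [top_inf_eq, show LinearMap.ker τ = LinearMap.range (Canon.HHlin A (ιl G (n + 1)) 0) from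
      le_antisymm (fun y hy => exists_of_lin_g_eq_zero (shortExact_layer hG n) 0 y hy) (by
        rintro _ ⟨x, rfl⟩
        rw [LinearMap.mem_ker, ← lin_comp_apply, ιl_tr, lin_zero_apply])]
    rw [LinearMap.range_eq_map]
    exact Module.Finite.fg_top.map _

end

section
variable [Module.Finite A (Coh.HH X (Kl G 0) 1)]

include hsplit in
theorem isML_H0sys : ARSys.IsML (H0sys (A := A) G) := by
  have hle : ∀ {a : A} {e : ℕ}, a ∈ Jf f ^ e → a ∈ I ^ e := fun ha => Ideal.pow_right_mono hf _ ha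
  suffices h : ∃ c, H24FMod.GrML.Stable (H0sys (A := A) G ⋙ forget₂ (ModuleCat.{u} A) AddCommGrpCat.{u}) c from
    isML_of_stable _ h.choose_spec
  refine H24FMod.GrML.exists_stable (J := Jf f)
    (F := H0sys (A := A) G ⋙ forget₂ (ModuleCat.{u} A) AddCommGrpCat.{u})
    (fun k n h a ha => (Canon.HHlin A (Mm hG k n h a (hle ha)) 0).toAddMonoidHom)
    (T := fun k => Coh.HH X (Kl G k) 1) (mH hG f hf 1) (fun k => δH (shortExact_layer hG k) 0) ?_ ?_ ?_ ?_
    (fun S hS => gen_bound (gradedLaws hG 1) S hS fun n x _ => mem_closure_mH hG hsplit 1 n x)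
  · intro n a ha x
    show Canon.HHlin A (tr G (Nat.le_succ n)) 0 (Canon.HHlin A (Mm hG 0 (n + 1) _ a _) 0 x) = 0
    rw [← lin_comp_apply, Mm_zero_succ hG n a (hle ha), lin_zero_apply]
  · intro k n h a ha ha' x
    show Canon.HHlin A (tr G (Nat.le_succ n)) 0 (Canon.HHlin A (Mm hG (k + 1) (n + 1) _ a _) 0 x) =
      Canon.HHlin A (Mm hG k n h a _) 0 (Canon.HHlin A (tr G (Nat.le_succ k)) 0 x)
    rw [← lin_comp_apply, ← lin_comp_apply, Mm_succ hG k n h a (hle ha) (hle ha')]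
  · intro n x hx
    exact exists_of_δH_eq_zero (A := A) (shortExact_layer hG n) 0 x hx
  · intro k n h a ha ha' x
    exact δH_natural (A := A) (shortExact_layer hG k) (shortExact_layer hG n)
      { τ₁ := μl hG (k + 1) (n + 1) (Nat.succ_le_succ h) a (hle ha')
        τ₂ := Mm hG (k + 1) (n + 1) (Nat.succ_le_succ h) a (hle ha')
        τ₃ := Mm hG k n h a (hle ha)
        comm₁₂ := μl_ι hG _ _ _ a (hle ha')
        comm₂₃ := Mm_succ hG k n h a (hle ha) (hle ha') } 0 x

end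

section
variable [Module.Finite A (Coh.HH X (Kl G 0) 0)]

/-- The filtration of the limit by the kernels of the projections. -/
noncomputable def fil (G : ℕᵒᵖ ⥤ X.Modules) : ℕ → Submodule A ↑(limit (H0sys (A := A) G))
  | 0 => ⊤
  | n + 1 => LinearMap.ker (πl (H0sys (A := A) G) n)

include hG in
omit [IsNoetherianRing A] [Module.Finite A (Coh.HH X (Kl G 0) 0)] in
theorem smul_mem_fil (k n : ℕ) (h : k ≤ n) (a : A) (ha : a ∈ I ^ (n - k)) (w : ↑(limit (H0sys (A := A) G)))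
    (hw : w ∈ fil G k) : a • w ∈ fil G n := by
  cases n with
  | zero => trivial
  | succ n =>
    show πl (H0sys (A := A) G) n (a • w) = 0
    rw [map_smul]
    cases k with
    | zero =>
      show a • (show Coh.HH X (G.obj (op n)) 0 from πl (H0sys (A := A) G) n w) = 0
      rw [← lin_smulMod, hG.2.1 n a ha, lin_zero_apply]
    | succ k =>
      have ha' : a ∈ I ^ (n - k) := by rwa [Nat.succ_sub_succ] at ha
      have hkn : k ≤ n := Nat.le_of_succ_le_succ h
      show a • (show Coh.HH X (G.obj (op n)) 0 from πl (H0sys (A := A) G) n w) = 0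
      rw [← lin_smulMod, ← tr_Mm hG k n hkn a ha', lin_comp_apply]
      have hw' : Canon.HHlin A (tr G hkn) 0 (πl (H0sys (A := A) G) n w) = 0 :=
        (limit_π_map (H0sys (A := A) G) hkn w).trans hw
      rw [hw', map_zero]

include hG in
omit [IsNoetherianRing A] [Module.Finite A (Coh.HH X (Kl G 0) 0)] in
theorem lin_Mm_π (k n : ℕ) (h : k ≤ n) (a : A) (ha : a ∈ I ^ (n - k)) (w : ↑(limit (H0sys (A := A) G))) :
    Canon.HHlin A (Mm hG k n h a ha) 0 (πl (H0sys (A := A) G) k w) = πl (H0sys (A := A) G) n (a • w) := by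
  rw [show πl (H0sys (A := A) G) k w = Canon.HHlin A (tr G h) 0 (πl (H0sys (A := A) G) n w) from
    (limit_π_map (H0sys (A := A) G) h w).symm, ← lin_comp_apply, tr_Mm, map_smul]
  rfl

include hsplit in
theorem exists_ker_le_pow (k : ℕ) :
    ∃ n : ℕ, LinearMap.ker (limit.π (H0sys (A := A) G) (op n)).hom ≤ I ^ k • (⊤ : Submodule A ↑(limit (H0sys (A := A) G))) := by
  let Y := H0sys (A := A) G
  have hle : ∀ {a : A} {e : ℕ}, a ∈ Jf f ^ e → a ∈ I ^ e := fun ha => Ideal.pow_right_mono hf _ ha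
  let S : ∀ n, AddSubgroup (Coh.HH X (Kl G n) 0) := fun n =>
    AddSubgroup.comap (Canon.HHlin A (ιl G n) 0).toAddMonoidHom
      ((fil (A := A) G n).map (πl Y n)).toAddSubgroup
  have hS : ∀ i n (h : i ≤ n) a (ha : a ∈ Jf f ^ (n - i)), ∀ y ∈ S i, mH hG f hf 0 i n h a ha y ∈ S n := by
    intro i n h a ha y hy
    obtain ⟨w, hw, hwy⟩ := hy
    refine ⟨a • w, smul_mem_fil hG i n h a (hle ha) w hw, ?_⟩
    show πl Y n (a • w) = Canon.HHlin A (ιl G n) 0 (Canon.HHlin A (μl hG i n h a _) 0 y)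
    rw [← lin_comp_apply, μl_ι, lin_comp_apply, ← lin_Mm_π hG i n h a (hle ha) w]
    exact congrArg (Canon.HHlin A (Mm hG i n h a (hle ha)) 0) hwy
  obtain ⟨c, hc⟩ := gen_bound (gradedLaws hG 0) S hS fun n x _ => mem_closure_mH hG hsplit 0 n x
  obtain ⟨r, b, hb⟩ := Submodule.fg_iff_exists_fin_generating_family.1 (IsNoetherian.noetherian (Jf f ^ k))
  refine ⟨c + k, fun z hz => ?_⟩
  suffices h : ∀ N, c + k ≤ N → ∀ z ∈ LinearMap.ker (πl Y N), ∃ y : Fin r → ↑(limit Y),
      (∀ l, y l ∈ LinearMap.ker (πl Y (N - k))) ∧ z - ∑ l, b l • y l ∈ LinearMap.ker (πl Y (N + 1)) by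
    obtain ⟨y, rfl⟩ := exists_sum_of_approx Y b (c + k) k (Nat.le_add_left k c) h z hz
    refine sum_mem fun l _ => Submodule.smul_mem_smul (Ideal.pow_right_mono hf _ ?_) Submodule.mem_top
    exact hb ▸ Submodule.subset_span ⟨l, rfl⟩
  clear hz z
  intro N hN z hz
  obtain ⟨x, hx⟩ : ∃ x, Canon.HHlin A (ιl G (N + 1)) 0 x = πl Y (N + 1) z :=
    exists_of_lin_g_eq_zero (shortExact_layer hG N) 0 _ ((limit_π_map Y (Nat.le_succ N) z).trans hz)
  have hxS : x ∈ S (N + 1) := ⟨z, hz, hx.symm⟩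
  -- lift the generators
  suffices key : ∀ x ∈ AddSubgroup.closure
      {v | ∃ a, ∃ ha : a ∈ Jf f ^ (N + 1 - c), ∃ y ∈ S c, mH hG f hf 0 c (N + 1) (by omega) a ha y = v},
      ∃ yl : Fin r → ↑(limit Y), (∀ l, yl l ∈ LinearMap.ker (πl Y (N - k))) ∧
        Canon.HHlin A (ιl G (N + 1)) 0 x = πl Y (N + 1) (∑ l, b l • yl l) by
    obtain ⟨yl, h1, h2⟩ := key x (hc (N + 1) (by omega) hxS)
    refine ⟨yl, h1, ?_⟩
    rw [LinearMap.mem_ker, map_sub, ← h2, hx, sub_self]
  intro x hx'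
  induction hx' using AddSubgroup.closure_induction with
  | zero => exact ⟨0, fun l => zero_mem _, by simp; rfl⟩
  | add u v _ _ hu hv =>
    obtain ⟨yu, hu1, hu2⟩ := hu
    obtain ⟨yv, hv1, hv2⟩ := hv
    exact ⟨yu + yv, fun l => add_mem (hu1 l) (hv1 l), by
      simp only [Pi.add_apply, smul_add, Finset.sum_add_distrib, map_add, hu2, hv2]; rfl⟩
  | neg u _ hu =>
    obtain ⟨yu, hu1, hu2⟩ := hu
    exact ⟨-yu, fun l => neg_mem (hu1 l), by
      simp only [Pi.neg_apply, smul_neg, Finset.sum_neg_distrib, map_neg, hu2]; rfl⟩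
  | mem v hv =>
    obtain ⟨a, ha, y, ⟨w, hw, hwy⟩, rfl⟩ := hv
    have ha' : a ∈ Ideal.span (Set.range b) * Jf f ^ (N - k + 1 - c) := by
      rw [show Ideal.span (Set.range b) = Jf f ^ k from hb, ← pow_add]
      rwa [show k + (N - k + 1 - c) = N + 1 - c by omega]
    obtain ⟨al, hal, hsum⟩ := exists_sum_of_mem_mul b ha'
    refine ⟨fun l => al l • w, fun l => smul_mem_fil hG c (N - k + 1) (by omega) (al l) (hle (hal l)) w hw, ?_⟩
    show Canon.HHlin A (ιl G (N + 1)) 0 (Canon.HHlin A (μl hG c (N + 1) _ a _) 0 y) = _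
    rw [← lin_comp_apply, μl_ι, lin_comp_apply]
    refine Eq.trans (congrArg (Canon.HHlin A (Mm hG c (N + 1) (by omega) a (hle ha)) 0) hwy.symm) ?_
    refine (lin_Mm_π hG c (N + 1) (by omega) a (hle ha) w).trans (congrArg (πl Y (N + 1)) ?_)
    simp only [smul_smul, ← Finset.sum_smul, hsum]

end

end Groth.Agent.H24Algz5
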