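import Groth.Agent.H24Algz5.Apply
import Mathlib.RingTheory.Nakayama
import Mathlib.RingTheory.LocalRing.ResidueField.Ideal

/-!
Split layers from flatness of the completed stalks over a Noetherian local ring.
-/

set_option autoImplicit false
set_option linter.style.haveILetI false

universe u

open CategoryTheory CategoryTheory.Limits AlgebraicGeometry Opposite

namespace Groth.Agent.H24Algz5

/-- A finitely generated ideal of a local ring has generators independent modulo the maximal ideal. -/
theorem exists_minimal_gen {R : Type u} [CommRing R] [IsLocalRing R] (P : Ideal R) (hP : P.FG) :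
    ∃ (r : ℕ) (b : Fin r → R), Ideal.span (Set.range b) = P ∧
      ∀ c : Fin r → R, ∑ s, c s * b s ∈ IsLocalRing.maximalIdeal R * P ↔ ∀ s, c s ∈ IsLocalRing.maximalIdeal R := by
  classical
  have hex : ∃ r : ℕ, ∃ b : Fin r → R, Ideal.span (Set.range b) = P :=
    Submodule.fg_iff_exists_fin_generating_family.1 hP
  obtain ⟨b, hb⟩ := Nat.find_spec hex
  have hbP : ∀ s, b s ∈ P := fun s => hb.le (Ideal.subset_span ⟨s, rfl⟩)
  refine ⟨_, b, hb, fun c => ⟨fun hc s => ?_, fun hc => sum_mem fun s _ => Ideal.mul_mem_mul (hc s) (hbP s)⟩⟩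
  by_contra hs
  have hu : IsUnit (c s) := by simpa [IsLocalRing.mem_maximalIdeal] using hs
  generalize hr : Nat.find hex = r at b hb hbP c hc s hs hu
  obtain ⟨r', rfl⟩ : ∃ r', r = r' + 1 := ⟨r - 1, by have := s.isLt; omega⟩
  let b' : Fin r' → R := fun i => b (s.succAbove i)
  have hle : P ≤ Ideal.span (Set.range b') ⊔ IsLocalRing.maximalIdeal R • P := by
    refine hb.ge.trans (Ideal.span_le.2 ?_)
    rintro _ ⟨t, rfl⟩
    by_cases ht : t = s
    · subst ht
      refine (Ideal.unit_mul_mem_iff_mem _ hu).1 ?_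
      rw [Fin.sum_univ_succAbove _ t] at hc
      have e : c t * b t = (c t * b t + ∑ i : Fin r', c (t.succAbove i) * b (t.succAbove i)) -
          ∑ i : Fin r', c (t.succAbove i) * b (t.succAbove i) := by ring
      rw [e]
      exact sub_mem (Submodule.mem_sup_right hc)
        (Submodule.mem_sup_left (sum_mem fun i _ => Ideal.mul_mem_left _ _ (Ideal.subset_span ⟨i, rfl⟩)))
    · obtain ⟨i, rfl⟩ := Fin.exists_succAbove_eq ht
      exact Submodule.mem_sup_left (Ideal.subset_span ⟨i, rfl⟩)
  have h1 : P ≤ Ideal.span (Set.range b') :=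
    Submodule.le_of_le_smul_of_le_jacobson_bot hP (IsLocalRing.maximalIdeal_le_jacobson _) hle
  exact Nat.find_min hex (show r' < Nat.find hex by omega)
    ⟨b', le_antisymm (Ideal.span_le.2 (by rintro _ ⟨i, rfl⟩; exact hbP _)) h1⟩

variable {A : Type u} [CommRing A] {X : Scheme.{u}} [X.Over (Spec (CommRingCat.of A))]
  {I : Ideal A} {G : ℕᵒᵖ ⥤ X.Modules} (hG : Formal.IsCohFormal I G) [IsNoetherianRing A]

theorem isSplit_of_flat (R : Type u) [CommRing R] [IsNoetherianRing R] [IsLocalRing R] (φ : R →+* A)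
    (hI : I = (IsLocalRing.maximalIdeal R).map φ) {d : ℕ} (g : Fin d → R)
    (hg : Ideal.span (Set.range g) = IsLocalRing.maximalIdeal R) (hf : Jf (fun j => φ (g j)) ≤ I)
    (h : ∀ y : X, (X ↘ Spec (CommRingCat.of A)).base y ∈ PrimeSpectrum.zeroLocus (R := A) I →
      @Module.Flat R ↥(Algz.hatStalk I G y) _ _ (Module.compHom ↥(Algz.hatStalk I G y)
        ((algebraMap (X.presheaf.stalk y) (Algz.hatRing I y)).comp ((Algz.toStalk A X y).comp φ)))) :
    IsSplit hG (fun j => φ (g j)) hf := by
  refine isSplit_of_stalk hG _ hf fun n => ?_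
  obtain ⟨r, b, hb, hind⟩ := exists_minimal_gen (IsLocalRing.maximalIdeal R ^ n) (IsNoetherian.noetherian _)
  have hJf : Jf (fun j => φ (g j)) = (IsLocalRing.maximalIdeal R).map φ := by
    rw [← hg, Ideal.map_span, ← Set.range_comp]
    rfl
  refine ⟨r, fun s => φ (b s), fun s => ?_, fun y => ?_⟩
  · rw [hJf, ← Ideal.map_pow, ← hb]
    exact Ideal.mem_map_of_mem _ (Ideal.subset_span ⟨s, rfl⟩)
  let ψ : R →+* X.presheaf.stalk y := (Algz.toStalk A X y).comp φ
  have hJ : Algz.stalkIdeal I y = (IsLocalRing.maximalIdeal R).map ψ := by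
    rw [Algz.stalkIdeal, hI, Ideal.map_map]
  refine ⟨?_, fun x hx s => ?_⟩
  · refine le_trans ?_ le_sup_left
    rw [hJ, ← Ideal.map_pow, ← hb, Ideal.map_span, ← Set.range_comp]
    rfl
  rcases stalkIdeal_eq_top_or_mem I y with htop | hy
  · refine Submodule.smul_mono_left htop.ge ?_
    rw [Submodule.top_smul]
    trivial
  letI : Algebra R (X.presheaf.stalk y) := ψ.toAlgebra
  letI : Module R ↥(Algz.hatStalk I G y) := Module.compHom ↥(Algz.hatStalk I G y)
    ((algebraMap (X.presheaf.stalk y) (Algz.hatRing I y)).comp ((Algz.toStalk A X y).comp φ))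
  haveI : IsScalarTower R (X.presheaf.stalk y) ↥(Algz.hatStalk I G y) := IsScalarTower.of_algebraMap_smul fun c v =>
    (algebraMap_smul (Algz.hatRing I y) (ψ c) v).symm
  haveI : Module.Flat R ↥(Algz.hatStalk I G y) := h y hy
  have hsmul : ∀ (c : R) (v : ↥(Algz.hatStalk I G y)), c • v = ψ c • v := fun c v => (IsScalarTower.algebraMap_smul _ c v).symm
  have hres : ∀ (e : ℕ), ∀ z ∈ (Algz.stalkIdeal I y) ^ e • (⊤ : Submodule (X.presheaf.stalk y) ↥(Algz.hatStalk I G y)),
      z ∈ (IsLocalRing.maximalIdeal R) ^ e • (⊤ : Submodule R ↥(Algz.hatStalk I G y)) := by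
    intro e z hz
    have hz' := Submodule.smul_mono_left (le_of_eq ((congrArg (· ^ e) hJ).trans (Ideal.map_pow _ _ _).symm)) hz
    clear hz
    refine Submodule.smul_induction_on hz' (fun c hc v _ => ?_) fun p q hp hq => add_mem hp hq
    induction hc using Submodule.span_induction generalizing v with
    | mem c hc =>
      obtain ⟨c', hc', rfl⟩ := hc
      rw [← hsmul]
      exact Submodule.smul_mem_smul hc' Submodule.mem_top
    | zero => rw [zero_smul]; exact zero_mem _
    | add a b _ _ ha hb => rw [add_smul]; exact add_mem (ha v Submodule.mem_top) (hb v Submodule.mem_top)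
    | smul a b _ hb => rw [smul_eq_mul, mul_comm, mul_smul]; exact hb _ Submodule.mem_top
  have hx' := hres (n + 1) _ hx
  have h2 := flat_independent (M := ↥(Algz.hatStalk I G y)) (IsLocalRing.maximalIdeal R) (IsLocalRing.maximalIdeal R ^ (n + 1)) b
    (fun c => by rw [pow_succ']; exact hind c) x (by
      simp only [hsmul]
      exact hx') s
  refine Submodule.smul_induction_on h2 (fun c hc v _ => ?_) fun p q hp hq => add_mem hp hq
  rw [hsmul]
  exact Submodule.smul_mem_smul (hJ.ge (Ideal.mem_map_of_mem _ hc)) Submodule.mem_top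

end Groth.Agent.H24Algz5
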