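import Groth.Agent.H06QR.Basic
import Mathlib.RingTheory.MvPolynomial.Homogeneous
import Mathlib.RingTheory.Polynomial.Basic
import Mathlib.RingTheory.Noetherian.Basic
import Mathlib.RingTheory.Finiteness.Basic

/-!
Stable families in a graded family of groups generated from degree zero over the powers of an ideal
are generated in bounded degree.
-/

set_option autoImplicit false
set_option linter.style.haveILetI false

universe u w

open MvPolynomial

namespace Groth.Agent.H24Algz5

variable {A : Type u} [CommRing A] {d : ℕ} (f : Fin d → A)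

/-- The ideal generated by the elements `f`. -/
abbrev Jf : Ideal A := Ideal.span (Set.range f)

variable (T : ℕ → Type w) [∀ k, AddCommGroup (T k)] [Module A (T 0)]
  (m : ∀ k n, k ≤ n → ∀ (a : A), a ∈ Jf f ^ (n - k) → (T k →+ T n))

/-- Multiplication laws of a graded family. -/
structure GradedLaws : Prop where
  add : ∀ k n (h : k ≤ n) a b (ha : a ∈ Jf f ^ (n - k)) (hb : b ∈ Jf f ^ (n - k)) y,
    m k n h (a + b) (add_mem ha hb) y = m k n h a ha y + m k n h b hb y
  comp : ∀ k c n (h : k ≤ c) (h' : c ≤ n) a b (ha : a ∈ Jf f ^ (n - c)) (hb : b ∈ Jf f ^ (c - k))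
    (hab : a * b ∈ Jf f ^ (n - k)) y, m c n h' a ha (m k c h b hb y) = m k n (h.trans h') (a * b) hab y
  smul : ∀ n (a c : A) (ha : a ∈ Jf f ^ (n - 0)) (hca : c * a ∈ Jf f ^ (n - 0)) y,
    m 0 n (Nat.zero_le n) a ha (c • y) = m 0 n (Nat.zero_le n) (c * a) hca y

variable {f T m}

omit [Module A (T 0)] in
theorem GradedLaws.congr {k n : ℕ} (h : k ≤ n) {a b : A} (e : a = b) (ha : a ∈ Jf f ^ (n - k))
    (y : T k) : m k n h a ha y = m k n h b (e ▸ ha) y := by
  subst e
  rfl

theorem GradedLaws.zero (hm : GradedLaws f T m) (k n : ℕ) (h : k ≤ n) (y : T k) :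
    m k n h 0 (zero_mem _) y = 0 := by
  have h1 := hm.add k n h 0 0 (zero_mem _) (zero_mem _) y
  rw [GradedLaws.congr (m := m) h (add_zero (0 : A))] at h1
  exact left_eq_add.1 h1

theorem GradedLaws.neg (hm : GradedLaws f T m) (k n : ℕ) (h : k ≤ n) (a : A) (ha : a ∈ Jf f ^ (n - k)) (y : T k) :
    m k n h (-a) (neg_mem ha) y = - m k n h a ha y := by
  refine eq_neg_of_add_eq_zero_left ?_
  rw [← hm.add k n h (-a) a (neg_mem ha) ha y, GradedLaws.congr (m := m) h (neg_add_cancel a), hm.zero k n h y]

theorem eval_component_mem (n : ℕ) (p : MvPolynomial (Fin d) A) :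
    eval f (homogeneousComponent n p) ∈ Jf f ^ (n - 0) := by
  rw [Nat.sub_zero]
  exact H06QR.eval_mem f (homogeneousComponent_isHomogeneous n p)

theorem homogeneousComponent_mul_X (n : ℕ) (p : MvPolynomial (Fin d) A) (j : Fin d) :
    homogeneousComponent (n + 1) (p * X j) = homogeneousComponent n p * X j := by
  classical
  ext e
  simp only [coeff_homogeneousComponent, coeff_mul_X', Finsupp.mem_support_iff]
  by_cases hj : e j = 0
  · simp [hj]
  · have hle : Finsupp.single j 1 ≤ e := Finsupp.single_le_iff.2 (Nat.one_le_iff_ne_zero.2 hj)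
    have hd : Finsupp.degree (e - Finsupp.single j 1) + 1 = Finsupp.degree e := by
      conv_rhs => rw [← tsub_add_cancel_of_le hle]
      simp [map_add]
    simp only [ne_eq, hj, not_false_eq_true, if_true]
    split_ifs <;> first | rfl | omega

theorem homogeneousComponent_zero_mul_X (p : MvPolynomial (Fin d) A) (j : Fin d) :
    homogeneousComponent 0 (p * X j) = 0 := by
  classical
  ext e
  simp only [coeff_homogeneousComponent, coeff_mul_X', Finsupp.mem_support_iff, coeff_zero]
  split_ifs with h1 h2
  · exfalso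
    have : e = 0 := (Finsupp.degree_eq_zero_iff e).1 h1
    exact h2 (by simp [this])
  · rfl
  · rfl

section

variable (hm : GradedLaws f T m) {r : ℕ} (g : Fin r → T 0)

/-- Evaluation of a tuple of polynomials in degree `n`. -/
noncomputable def ev (n : ℕ) (P : Fin r → MvPolynomial (Fin d) A) : T n :=
  ∑ i, m 0 n (Nat.zero_le n) (eval f (homogeneousComponent n (P i))) (eval_component_mem n _) (g i)

include hm

theorem ev_add (n : ℕ) (P Q : Fin r → MvPolynomial (Fin d) A) : ev (m := m) g n (P + Q) = ev (m := m) g n P + ev (m := m) g n Q := by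
  rw [ev, ev, ev, ← Finset.sum_add_distrib]
  refine Finset.sum_congr rfl fun i _ => ?_
  rw [← hm.add _ _ _ _ _ (eval_component_mem n _) (eval_component_mem n _)]
  exact GradedLaws.congr (m := m) _ (by rw [Pi.add_apply, map_add, map_add]) _ _

theorem ev_zero (n : ℕ) : ev (m := m) g n (0 : Fin r → MvPolynomial (Fin d) A) = 0 :=
  Finset.sum_eq_zero fun i _ => (GradedLaws.congr (m := m) _ (by rw [Pi.zero_apply, map_zero, map_zero]) _ _).trans (hm.zero _ _ _ _)

theorem ev_C_smul (n : ℕ) (c : A) (P : Fin r → MvPolynomial (Fin d) A) (hc : c ∈ Jf f ^ (n - n)) :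
    ev (m := m) g n ((C c : MvPolynomial (Fin d) A) • P) = m n n le_rfl c hc (ev (m := m) g n P) := by
  rw [ev, ev, map_sum]
  refine Finset.sum_congr rfl fun i _ => ?_
  have hmem : c * eval f (homogeneousComponent n (P i)) ∈ Jf f ^ (n - 0) := Ideal.mul_mem_left _ _ (eval_component_mem n _)
  rw [hm.comp 0 n n (Nat.zero_le n) le_rfl c _ hc (eval_component_mem n _) hmem]
  exact GradedLaws.congr (m := m) _ (by rw [Pi.smul_apply, smul_eq_mul, homogeneousComponent_C_mul, map_mul, eval_C]) _ _

theorem ev_X_smul_succ (n : ℕ) (j : Fin d) (P : Fin r → MvPolynomial (Fin d) A) (hj : f j ∈ Jf f ^ (n + 1 - n)) :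
    ev (m := m) g (n + 1) ((X j : MvPolynomial (Fin d) A) • P) = m n (n + 1) (Nat.le_succ n) (f j) hj (ev (m := m) g n P) := by
  rw [ev, ev, map_sum]
  refine Finset.sum_congr rfl fun i _ => ?_
  have hmem : f j * eval f (homogeneousComponent n (P i)) ∈ Jf f ^ (n + 1 - 0) := by
    have := Ideal.mul_mem_mul hj (eval_component_mem (f := f) n (P i))
    rwa [← pow_add, show n + 1 - n + (n - 0) = n + 1 - 0 by omega] at this
  rw [hm.comp 0 n (n + 1) (Nat.zero_le n) (Nat.le_succ n) (f j) _ hj (eval_component_mem n _) hmem]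
  exact GradedLaws.congr (m := m) _ (by rw [Pi.smul_apply, smul_eq_mul, mul_comm, homogeneousComponent_mul_X, map_mul, eval_X, mul_comm]) _ _

theorem ev_X_smul_zero (j : Fin d) (P : Fin r → MvPolynomial (Fin d) A) :
    ev (m := m) g 0 ((X j : MvPolynomial (Fin d) A) • P) = 0 :=
  Finset.sum_eq_zero fun i _ => (GradedLaws.congr (m := m) _
    (by rw [Pi.smul_apply, smul_eq_mul, mul_comm, homogeneousComponent_zero_mul_X, map_zero]) _ _).trans (hm.zero _ _ _ _)

variable (S : ∀ n, AddSubgroup (T n)) (hS : ∀ k n (h : k ≤ n) a (ha : a ∈ Jf f ^ (n - k)), ∀ y ∈ S k, m k n h a ha y ∈ S n)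

/-- The tuples of polynomials all whose evaluations lie in the stable family. -/
noncomputable def relMod : Submodule (MvPolynomial (Fin d) A) (Fin r → MvPolynomial (Fin d) A) where
  carrier := {P | ∀ n, ev (m := m) g n P ∈ S n}
  zero_mem' n := by rw [ev_zero hm g n]; exact zero_mem _
  add_mem' {P Q} hP hQ n := by rw [ev_add hm g n P Q]; exact add_mem (hP n) (hQ n)
  smul_mem' q P hP := by
    induction q using MvPolynomial.induction_on with
    | C c =>
      intro n
      rw [ev_C_smul hm g n c P (by simp)]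
      exact hS n n le_rfl c _ _ (hP n)
    | add p q hp hq =>
      intro n
      rw [add_smul, ev_add hm g n]
      exact add_mem (hp n) (hq n)
    | mul_X p j hp =>
      intro n
      rw [mul_comm, mul_smul]
      cases n with
      | zero => rw [ev_X_smul_zero hm g j]; exact zero_mem _
      | succ n =>
        rw [ev_X_smul_succ hm g n j _ (by rw [Nat.add_sub_cancel_left, pow_one]; exact Ideal.subset_span ⟨j, rfl⟩)]
        exact hS n (n + 1) (Nat.le_succ n) _ _ _ (hp n)

end

variable [IsNoetherianRing A] [Module.Finite A (T 0)]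

/-- Stable families inside the part generated from degree zero are generated in bounded degree. -/
theorem gen_bound (hm : GradedLaws f T m) (S : ∀ n, AddSubgroup (T n))
    (hS : ∀ k n (h : k ≤ n) a (ha : a ∈ Jf f ^ (n - k)), ∀ y ∈ S k, m k n h a ha y ∈ S n)
    (hgen : ∀ n, S n ≤ AddSubgroup.closure {z | ∃ a, ∃ ha : a ∈ Jf f ^ (n - 0), ∃ y, m 0 n (Nat.zero_le n) a ha y = z}) :
    ∃ c, ∀ n (h : c ≤ n), S n ≤ AddSubgroup.closure
      {z | ∃ a, ∃ ha : a ∈ Jf f ^ (n - c), ∃ y ∈ S c, m c n h a ha y = z} := by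
  classical
  obtain ⟨r, g, hg⟩ := Module.Finite.exists_fin (R := A) (M := T 0)
  let N := relMod hm g S hS
  obtain ⟨gens, hgens⟩ : N.FG := IsNoetherian.noetherian N
  let c := gens.sup fun P => Finset.univ.sup fun i => (P i).totalDegree
  refine ⟨c, fun n hn z hz => ?_⟩
  -- every element of the stable family is an evaluation
  have hev : ∀ w ∈ AddSubgroup.closure {z | ∃ a, ∃ ha : a ∈ Jf f ^ (n - 0), ∃ y, m 0 n (Nat.zero_le n) a ha y = z},
      ∃ P : Fin r → MvPolynomial (Fin d) A, (∀ i, (P i).IsHomogeneous n) ∧ ev (m := m) g n P = w := by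
    intro w hw
    induction hw using AddSubgroup.closure_induction with
    | zero => exact ⟨0, fun i => isHomogeneous_zero _ _ _, ev_zero hm g n⟩
    | add a b _ _ ha hb =>
      obtain ⟨P, hP, rfl⟩ := ha
      obtain ⟨Q, hQ, rfl⟩ := hb
      exact ⟨P + Q, fun i => (hP i).add (hQ i), ev_add hm g n P Q⟩
    | neg a _ ha =>
      obtain ⟨P, hP, rfl⟩ := ha
      refine ⟨-P, fun i => (hP i).neg, eq_neg_of_add_eq_zero_left ?_⟩
      rw [← ev_add hm g n, neg_add_cancel, ev_zero hm g n]
    | mem w hw =>
      obtain ⟨a, ha, y, rfl⟩ := hw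
      obtain ⟨q, hq, hqa⟩ := H06QR.exists_homogeneous f (k := n) (Nat.sub_zero n ▸ ha)
      have hy : y ∈ Submodule.span A (Set.range g) := hg ▸ Submodule.mem_top
      rw [Submodule.mem_span_range_iff_exists_fun] at hy
      obtain ⟨co, rfl⟩ := hy
      refine ⟨fun i => C (co i) * q, fun i => hq.C_mul _, ?_⟩
      rw [map_sum, ev]
      refine Finset.sum_congr rfl fun i _ => ?_
      have hmem : co i * a ∈ Jf f ^ (n - 0) := Ideal.mul_mem_left _ _ ha
      rw [hm.smul n a (co i) ha hmem]
      refine GradedLaws.congr (m := m) _ ?_ _ _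
      show eval f (homogeneousComponent n (C (co i) * q)) = co i * a
      rw [homogeneousComponent_C_mul, homogeneousComponent_eq_self hq, map_mul, eval_C, hqa]
  obtain ⟨P, hP, rfl⟩ := hev z (hgen n hz)
  have hPN : P ∈ N := fun k => by
    rcases eq_or_ne k n with rfl | hk
    · exact hz
    · have hz0 : ev (m := m) g k P = 0 := Finset.sum_eq_zero fun i _ =>
        (GradedLaws.congr (m := m) _ (by rw [homogeneousComponent_of_mem (hP i), if_neg hk, map_zero]) _ _).trans (hm.zero _ _ _ _)
      rw [hz0]
      exact zero_mem _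
  rw [← hgens] at hPN
  clear hz hP
  suffices key : ∀ P ∈ Submodule.span (MvPolynomial (Fin d) A) (gens : Set (Fin r → MvPolynomial (Fin d) A)),
      ∀ k (hk : c ≤ k), ev (m := m) g k P ∈ AddSubgroup.closure
        {z | ∃ a, ∃ ha : a ∈ Jf f ^ (k - c), ∃ y ∈ S c, m c k hk a ha y = z} from key P hPN n hn
  intro P hP
  -- homogeneous pieces of the generators carry multiples of `S c`
  let W : ∀ k, c ≤ k → AddSubgroup (T k) := fun k hk => AddSubgroup.closure
    {z | ∃ a, ∃ ha : a ∈ Jf f ^ (k - c), ∃ y ∈ S c, m c k hk a ha y = z}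
  have hW : ∀ i k (hk : c ≤ k) (hi : i ≤ c) a (ha : a ∈ Jf f ^ (k - i)), ∀ y ∈ S i,
      m i k (hi.trans hk) a ha y ∈ W k hk := by
    intro i k hk hi a ha y hy
    have ha' : a ∈ Jf f ^ (k - c) * Jf f ^ (c - i) := by rw [← pow_add]; rwa [show k - c + (c - i) = k - i by omega]
    suffices h : ∃ ha'' : a ∈ Jf f ^ (k - i), m i k (hi.trans hk) a ha'' y ∈ W k hk from h.2
    refine Submodule.mul_induction_on ha' (fun x hx w hw => ?_) fun x w hx hw => ?_
    · have hxw : x * w ∈ Jf f ^ (k - i) := by
        rw [show k - i = k - c + (c - i) by omega, pow_add]; exact Ideal.mul_mem_mul hx hw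
      refine ⟨hxw, ?_⟩
      rw [← hm.comp i c k hi hk x w hx hw hxw]
      exact AddSubgroup.subset_closure ⟨x, hx, _, hS i c hi w hw y hy, rfl⟩
    · obtain ⟨hx, hx'⟩ := hx
      obtain ⟨hw, hw'⟩ := hw
      refine ⟨add_mem hx hw, ?_⟩
      rw [hm.add i k _ x w hx hw]
      exact add_mem hx' hw'
  suffices h : ∀ q : MvPolynomial (Fin d) A, ∀ k (hk : c ≤ k), ev (m := m) g k (q • P) ∈ W k hk by
    intro k hk
    have := h 1 k hk
    rwa [one_smul] at this
  induction hP using Submodule.span_induction with
  | mem x hx =>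
    have hxN : ∀ l, ev (m := m) g l x ∈ S l := by
      have : x ∈ N := hgens ▸ Submodule.subset_span hx
      exact this
    have hxdeg : ∀ l, c < l → ev (m := m) g l x = 0 := fun l hl => Finset.sum_eq_zero fun i _ =>
      (GradedLaws.congr (m := m) _ (by
        rw [homogeneousComponent_eq_zero _ _ (lt_of_le_of_lt ((Finset.le_sup (f := fun i => (x i).totalDegree)
          (Finset.mem_univ i)).trans (Finset.le_sup (f := fun P => Finset.univ.sup fun i => (P i).totalDegree) hx)) hl),
          map_zero]) _ _).trans (hm.zero _ _ _ _)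
    have h : ∀ q : MvPolynomial (Fin d) A, ∀ k, ev (m := m) g k (q • x) ∈ S k ∧
        ∀ hk : c ≤ k, ev (m := m) g k (q • x) ∈ W k hk := by
      intro q
      induction q using MvPolynomial.induction_on with
      | C a =>
        intro k
        rw [ev_C_smul hm g k a x (by simp)]
        refine ⟨hS k k le_rfl _ _ _ (hxN k), fun hk => ?_⟩
        rcases hk.eq_or_lt with rfl | hlt
        · exact hW c c le_rfl le_rfl _ _ _ (hxN c)
        · rw [hxdeg k hlt, map_zero]; exact zero_mem _
      | add p q hp hq =>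
        intro k
        rw [add_smul, ev_add hm g k]
        exact ⟨add_mem (hp k).1 (hq k).1, fun hk => add_mem ((hp k).2 hk) ((hq k).2 hk)⟩
      | mul_X p j hp =>
        intro k
        rw [mul_comm, mul_smul]
        cases k with
        | zero =>
          rw [ev_X_smul_zero hm g j]
          exact ⟨zero_mem _, fun _ => zero_mem _⟩
        | succ k =>
          have hj : f j ∈ Jf f ^ (k + 1 - k) := by rw [Nat.add_sub_cancel_left, pow_one]; exact Ideal.subset_span ⟨j, rfl⟩
          rw [ev_X_smul_succ hm g k j _ hj]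
          refine ⟨hS k (k + 1) (Nat.le_succ k) _ _ _ (hp k).1, fun hk => ?_⟩
          rcases hk.eq_or_lt with he | hlt
          · exact hW k (k + 1) hk (by omega) _ _ _ (hp k).1
          · have hck : c ≤ k := Nat.le_of_lt_succ hlt
            have hmem := (hp k).2 hck
            generalize ev (m := m) g k (p • x) = z at hmem
            induction hmem using AddSubgroup.closure_induction with
            | zero => rw [map_zero]; exact zero_mem _
            | add a b _ _ ha hb => rw [map_add]; exact add_mem ha hb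
            | neg a _ ha => rw [map_neg]; exact neg_mem ha
            | mem a ha =>
              obtain ⟨b, hb, y, hy, rfl⟩ := ha
              have hmem' : f j * b ∈ Jf f ^ (k + 1 - c) := by
                have := Ideal.mul_mem_mul hj hb
                rwa [← pow_add, show k + 1 - k + (k - c) = k + 1 - c by omega] at this
              rw [hm.comp c k (k + 1) hck (Nat.le_succ k) (f j) b hj hb hmem']
              exact AddSubgroup.subset_closure ⟨_, hmem', y, hy, rfl⟩
    exact fun q k hk => (h q k).2 hk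
  | zero => intro q k hk; rw [smul_zero, ev_zero hm g k]; exact zero_mem _
  | add x y _ _ hx hy => intro q k hk; rw [smul_add, ev_add hm g k]; exact add_mem (hx q k hk) (hy q k hk)
  | smul a x _ hx => intro q k hk; rw [← mul_smul]; exact hx (q * a) k hk

end Groth.Agent.H24Algz5
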