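import Groth.Agent.H24Algz5.Coh
import Groth.Agent.H24Algz5.Gen
import Groth.Agent.H24Algz5.Approx
import Groth.Agent.H24Formal.CohFormal
import Groth.Agent.H24FMod.GrML
import Mathlib.Algebra.Category.Grp.Limits
import Mathlib.RingTheory.Finiteness.Finsupp

/-!
The global sections of a coherent formal module whose graded layers are split sums of copies of its
first term.
-/

set_option autoImplicit false
set_option linter.style.haveILetI false

universe u

open CategoryTheory CategoryTheory.Limits AlgebraicGeometry Opposite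

namespace Groth.Agent.H24Algz5

open Groth.Agent.H24Formal

attribute [local instance 10000] H10Coh.hasSheafifyAb H10Coh.hasWeakSheafifyAb H10Coh.hasExtAb H10Coh.enoughInjAb

variable {A : Type u} [CommRing A] {X : Scheme.{u}} [X.Over (Spec (CommRingCat.of A))]

theorem smulMod_add (N : X.Modules) (a b : A) :
    Formal.smulMod A N (a + b) = Formal.smulMod A N a + Formal.smulMod A N b := by
  refine Scheme.Modules.hom_ext _ _ fun U => ?_
  ext m
  show (Coh.smulAb N (Coh.toGlobal (X ↘ Spec (CommRingCat.of A)) (a + b))).hom.app (op U) m = _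
  rw [map_add, Coh.smulAb_add]
  rfl

theorem smulMod_mul (N : X.Modules) (a b : A) :
    Formal.smulMod A N (a * b) = Formal.smulMod A N b ≫ Formal.smulMod A N a := by
  refine Scheme.Modules.hom_ext _ _ fun U => ?_
  ext m
  show (Coh.smulAb N (Coh.toGlobal (X ↘ Spec (CommRingCat.of A)) (a * b))).hom.app (op U) m = _
  rw [map_mul, Coh.smulAb_mul]
  rfl

variable {I : Ideal A} {G : ℕᵒᵖ ⥤ X.Modules}

/-- The transition map of a system. -/
noncomputable abbrev tr (G : ℕᵒᵖ ⥤ X.Modules) {k n : ℕ} (h : k ≤ n) : G.obj (op n) ⟶ G.obj (op k) :=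
  G.map (homOfLE h).op

theorem tr_self (k : ℕ) : tr G (le_refl k) = 𝟙 _ := by
  rw [tr, show (homOfLE (le_refl k)).op = 𝟙 (op k) from Subsingleton.elim _ _, G.map_id]

theorem tr_comp {k c n : ℕ} (h : k ≤ c) (h' : c ≤ n) : tr G h' ≫ tr G h = tr G (h.trans h') := by
  rw [tr, tr, ← G.map_comp]
  rfl

variable (hG : Formal.IsCohFormal I G)
include hG

theorem exists_M (k n : ℕ) (h : k ≤ n) (a : A) (ha : a ∈ I ^ (n - k)) :
    ∃ φ : G.obj (op k) ⟶ G.obj (op n), tr G h ≫ φ = Formal.smulMod A (G.obj (op n)) a := by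
  refine (epi_and_factor hG h).2 _ (Sigma.hom_ext _ _ fun b => ?_)
  rw [Formal.smulFamily, ← Category.assoc, Sigma.ι_desc, comp_zero, ← smulMod_mul]
  refine hG.2.1 n _ ?_
  have := Ideal.mul_mem_mul ha b.2
  rwa [← pow_add, show n - k + (k + 1) = n + 1 by omega] at this

/-- Multiplication from one level to a higher one. -/
noncomputable def Mm (k n : ℕ) (h : k ≤ n) (a : A) (ha : a ∈ I ^ (n - k)) : G.obj (op k) ⟶ G.obj (op n) :=
  (exists_M hG k n h a ha).choose

theorem tr_Mm (k n : ℕ) (h : k ≤ n) (a : A) (ha : a ∈ I ^ (n - k)) :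
    tr G h ≫ Mm hG k n h a ha = Formal.smulMod A (G.obj (op n)) a := (exists_M hG k n h a ha).choose_spec

theorem epi_tr {k n : ℕ} (h : k ≤ n) : Epi (tr G h) := (epi_and_factor hG h).1

theorem Mm_add (k n : ℕ) (h : k ≤ n) (a b : A) (ha : a ∈ I ^ (n - k)) (hb : b ∈ I ^ (n - k)) :
    Mm hG k n h (a + b) (add_mem ha hb) = Mm hG k n h a ha + Mm hG k n h b hb := by
  haveI := epi_tr hG h
  rw [← cancel_epi (tr G h), Preadditive.comp_add, tr_Mm, tr_Mm, tr_Mm, smulMod_add]

theorem Mm_comp (k c n : ℕ) (h : k ≤ c) (h' : c ≤ n) (a b : A) (ha : a ∈ I ^ (n - c)) (hb : b ∈ I ^ (c - k))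
    (hab : a * b ∈ I ^ (n - k)) :
    Mm hG k c h b hb ≫ Mm hG c n h' a ha = Mm hG k n (h.trans h') (a * b) hab := by
  haveI := epi_tr hG (h.trans h')
  rw [← cancel_epi (tr G (h.trans h')), tr_Mm, ← tr_comp h h', Category.assoc, reassoc_of% (tr_Mm hG k c h b hb),
    smulMod_comm (Mm hG c n h' a ha) b |> fun e => e, ← Category.assoc, tr_Mm, ← smulMod_mul, mul_comm]

theorem Mm_self (k : ℕ) (a : A) (ha : a ∈ I ^ (k - k)) : Mm hG k k le_rfl a ha = Formal.smulMod A (G.obj (op k)) a := by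
  have h := tr_Mm hG k k le_rfl a ha
  rwa [tr_self, Category.id_comp] at h

theorem Mm_succ (k n : ℕ) (h : k ≤ n) (a : A) (ha : a ∈ I ^ (n - k)) (ha' : a ∈ I ^ (n + 1 - (k + 1))) :
    Mm hG (k + 1) (n + 1) (Nat.succ_le_succ h) a ha' ≫ tr G (Nat.le_succ n) = tr G (Nat.le_succ k) ≫ Mm hG k n h a ha := by
  haveI := epi_tr hG (Nat.succ_le_succ h)
  rw [← cancel_epi (tr G (Nat.succ_le_succ h)), ← Category.assoc, tr_Mm, smulMod_comm, ← Category.assoc (tr G _),
    tr_comp, ← tr_Mm hG k n h a ha, ← Category.assoc, tr_comp]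

theorem Mm_zero_succ (n : ℕ) (a : A) (ha : a ∈ I ^ (n + 1 - 0)) :
    Mm hG 0 (n + 1) (Nat.zero_le _) a ha ≫ tr G (Nat.le_succ n) = 0 := by
  haveI := epi_tr hG (Nat.zero_le (n + 1))
  rw [← cancel_epi (tr G (Nat.zero_le (n + 1))), ← Category.assoc, tr_Mm, smulMod_comm, comp_zero,
    hG.2.1 n a ha, comp_zero]

omit hG

variable (G)

/-- The layers. -/
noncomputable def Kl : ℕ → X.Modules
  | 0 => G.obj (op 0)
  | n + 1 => kernel (tr G (Nat.le_succ n))

/-- The inclusion of a layer. -/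
noncomputable def ιl : ∀ n, Kl G n ⟶ G.obj (op n)
  | 0 => 𝟙 _
  | n + 1 => kernel.ι (tr G (Nat.le_succ n))

theorem mono_ιl : ∀ n, Mono (ιl G n)
  | 0 => inferInstanceAs (Mono (𝟙 (G.obj (op 0))))
  | n + 1 => inferInstanceAs (Mono (kernel.ι (tr G (Nat.le_succ n))))

theorem ιl_tr (n : ℕ) : ιl G (n + 1) ≫ tr G (Nat.le_succ n) = 0 := kernel.condition _

variable {G}
include hG

theorem shortExact_layer (n : ℕ) :
    (ShortComplex.mk (ιl G (n + 1)) (tr G (Nat.le_succ n)) (ιl_tr G n)).ShortExact := by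
  haveI := epi_tr hG (Nat.le_succ n)
  haveI : Mono (ιl G (n + 1)) := mono_ιl G (n + 1)
  exact { exact := ShortComplex.exact_of_f_is_kernel _ (kernelIsKernel _) }

theorem exists_μ (k n : ℕ) (h : k ≤ n) (a : A) (ha : a ∈ I ^ (n - k)) :
    ∃ μ : Kl G k ⟶ Kl G n, μ ≫ ιl G n = ιl G k ≫ Mm hG k n h a ha := by
  cases n with
  | zero =>
    obtain rfl : k = 0 := Nat.le_zero.1 h
    exact ⟨Mm hG 0 0 h a ha, (Category.comp_id _).trans (Category.id_comp _).symm⟩
  | succ n =>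
    have hz : (ιl G k ≫ Mm hG k (n + 1) h a ha) ≫ tr G (Nat.le_succ n) = 0 := by
      cases k with
      | zero => rw [Category.assoc, Mm_zero_succ hG n a ha, comp_zero]
      | succ k =>
        rw [Category.assoc, Mm_succ hG k n (Nat.le_of_succ_le_succ h) a (by rwa [Nat.succ_sub_succ] at ha) ha,
          ← Category.assoc, ιl_tr, zero_comp]
    exact ⟨kernel.lift _ _ hz, kernel.lift_ι _ _ hz⟩

/-- Multiplication between layers. -/
noncomputable def μl (k n : ℕ) (h : k ≤ n) (a : A) (ha : a ∈ I ^ (n - k)) : Kl G k ⟶ Kl G n :=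
  (exists_μ hG k n h a ha).choose

theorem μl_ι (k n : ℕ) (h : k ≤ n) (a : A) (ha : a ∈ I ^ (n - k)) :
    μl hG k n h a ha ≫ ιl G n = ιl G k ≫ Mm hG k n h a ha := (exists_μ hG k n h a ha).choose_spec

theorem μl_add (k n : ℕ) (h : k ≤ n) (a b : A) (ha : a ∈ I ^ (n - k)) (hb : b ∈ I ^ (n - k)) :
    μl hG k n h (a + b) (add_mem ha hb) = μl hG k n h a ha + μl hG k n h b hb := by
  haveI := mono_ιl G n
  rw [← cancel_mono (ιl G n), Preadditive.add_comp, μl_ι, μl_ι, μl_ι, Mm_add hG, Preadditive.comp_add]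

theorem μl_comp (k c n : ℕ) (h : k ≤ c) (h' : c ≤ n) (a b : A) (ha : a ∈ I ^ (n - c)) (hb : b ∈ I ^ (c - k))
    (hab : a * b ∈ I ^ (n - k)) :
    μl hG k c h b hb ≫ μl hG c n h' a ha = μl hG k n (h.trans h') (a * b) hab := by
  haveI := mono_ιl G n
  rw [← cancel_mono (ιl G n), Category.assoc, μl_ι, μl_ι, ← Category.assoc, μl_ι, Category.assoc, Mm_comp hG k c n h h']

theorem μl_congr (k n : ℕ) (h : k ≤ n) {a b : A} (e : a = b) (ha : a ∈ I ^ (n - k)) :
    μl hG k n h a ha = μl hG k n h b (e ▸ ha) := by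
  subst e
  rfl

theorem μl_zero_smul (c : A) : μl hG 0 0 le_rfl c (by simp) = Formal.smulMod A (Kl G 0) c := by
  haveI := mono_ιl G 0
  rw [← cancel_mono (ιl G 0), μl_ι, Mm_self hG]
  exact (Category.id_comp _).trans (Category.comp_id _).symm

/-- The layers are split sums of copies of the first term along the powers of `J`. -/
def IsSplit {d : ℕ} (f : Fin d → A) (hf : Jf f ≤ I) : Prop :=
  ∀ n, ∃ (r : ℕ) (a : Fin r → A) (ha : ∀ s, a s ∈ Jf f ^ (n - 0)) (pr : Fin r → (Kl G n ⟶ Kl G 0)),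
    ∑ s, pr s ≫ μl hG 0 n (Nat.zero_le n) (a s) (Ideal.pow_right_mono hf _ (ha s)) = 𝟙 _

variable {d : ℕ} {f : Fin d → A} {hf : Jf f ≤ I} (hsplit : IsSplit hG f hf)

variable (f hf) in
/-- Multiplication on the cohomology of the layers. -/
noncomputable def mH (p k n : ℕ) (h : k ≤ n) (a : A) (ha : a ∈ Jf f ^ (n - k)) :
    Coh.HH X (Kl G k) p →+ Coh.HH X (Kl G n) p :=
  (Canon.HHlin A (μl hG k n h a (Ideal.pow_right_mono hf _ ha)) p).toAddMonoidHom

theorem gradedLaws (p : ℕ) : GradedLaws f (fun k => Coh.HH X (Kl G k) p) (mH hG f hf p) where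
  add k n h a b ha hb y := by
    show Canon.HHlin A (μl hG k n h (a + b) _) p y = _
    rw [μl_add hG k n h a b (Ideal.pow_right_mono hf _ ha) (Ideal.pow_right_mono hf _ hb), lin_add_apply]
    rfl
  comp k c n h h' a b ha hb hab y := by
    show Canon.HHlin A (μl hG c n h' a _) p (Canon.HHlin A (μl hG k c h b _) p y) = _
    rw [← lin_comp_apply, μl_comp hG k c n h h' a b _ _ (Ideal.pow_right_mono hf _ hab)]
    rfl
  smul n a c ha hca y := by
    show Canon.HHlin A (μl hG 0 n _ a _) p (c • y) = _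
    rw [← lin_smulMod, ← lin_comp_apply, ← μl_zero_smul hG c,
      μl_comp hG 0 0 n le_rfl (Nat.zero_le n) a c _ _ (Ideal.mul_mem_right _ _ (Ideal.pow_right_mono hf _ ha))]
    show Canon.HHlin A (μl hG 0 n _ (a * c) _) p y = Canon.HHlin A (μl hG 0 n _ (c * a) _) p y
    rw [μl_congr hG 0 n _ (mul_comm a c)]

include hsplit

theorem mem_closure_mH (p n : ℕ) (x : Coh.HH X (Kl G n) p) :
    x ∈ AddSubgroup.closure {z | ∃ a, ∃ ha : a ∈ Jf f ^ (n - 0), ∃ y, mH hG f hf p 0 n (Nat.zero_le n) a ha y = z} := by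
  obtain ⟨r, a, ha, pr, hpr⟩ := hsplit n
  rw [← lin_id_apply (A := A) (Kl G n) p x, ← hpr, lin_sum_apply]
  exact sum_mem fun s _ => AddSubgroup.subset_closure ⟨a s, ha s, _, (lin_comp_apply _ _ p x).symm⟩

theorem finite_layer [IsNoetherianRing A] (p n : ℕ) [Module.Finite A (Coh.HH X (Kl G 0) p)] :
    Module.Finite A (Coh.HH X (Kl G n) p) := by
  obtain ⟨r, a, ha, pr, hpr⟩ := hsplit n
  let L : (Fin r → Coh.HH X (Kl G 0) p) →ₗ[A] Coh.HH X (Kl G n) p :=
    ∑ s, (Canon.HHlin A (μl hG 0 n (Nat.zero_le n) (a s) (Ideal.pow_right_mono hf _ (ha s))) p) ∘ₗ LinearMap.proj s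
  refine Module.Finite.of_surjective L fun x => ⟨fun s => Canon.HHlin A (pr s) p x, ?_⟩
  rw [LinearMap.sum_apply]
  refine Eq.trans ?_ ((congrArg (fun φ => Canon.HHlin A φ p x) hpr).trans (lin_id_apply (A := A) (Kl G n) p x))
  rw [lin_sum_apply]
  exact Finset.sum_congr rfl fun s _ => (lin_comp_apply _ _ p x).symm

end Groth.Agent.H24Algz5
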